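import Groth.Prelude.Def_W4c6eohyperellchar2Gc
import Mathlib.Algebra.CharP.Two
import Mathlib.LinearAlgebra.Dimension.Constructions
import Mathlib.LinearAlgebra.Dimension.StrongRankCondition
import Mathlib.RingTheory.SimpleRing.Field
import Mathlib.Algebra.BigOperators.Pi

/-!
# The final filtration of the nilpotent block
-/

namespace NilBlockLib

open W4c6eohyperellchar2

variable {c : ℕ} {k : Type*} [Field k]

lemma mem_Nfil {i : ℕ} {v : GcMod c k} : v ∈ Nfil c k i ↔
    (∀ n : Fin c, i < n.val + 1 → v.2 n = 0) ∧ ∀ n : Fin c, n.val + 1 ≤ 2 * c - i → v.1 n = 0 := by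
  constructor
  · intro hv
    induction hv using Submodule.span_induction with
    | mem w hw =>
      rcases hw with ⟨m, hm, rfl⟩ | ⟨m, hm, rfl⟩
      · refine ⟨fun n hn => ?_, fun n _ => rfl⟩
        have := hm.2
        simp only [Y]
        rw [if_neg (by omega)]
      · refine ⟨fun n _ => rfl, fun n hn => ?_⟩
        have := hm.1
        simp only [X]
        rw [if_neg (by omega)]
    | zero => simp
    | add a b _ _ ha hb =>
      exact ⟨fun n hn => by simp [ha.1 n hn, hb.1 n hn], fun n hn => by simp [ha.2 n hn, hb.2 n hn]⟩
    | smul r a _ ha => exact ⟨fun n hn => by simp [ha.1 n hn], fun n hn => by simp [ha.2 n hn]⟩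
  · rintro ⟨h2, h1⟩
    have e : v = ∑ n : Fin c, (v.1 n • X c k (n.val + 1) + v.2 n • Y c k (n.val + 1)) := by
      refine Prod.ext (funext fun m => ?_) (funext fun m => ?_) <;>
        simp [X, Y, Prod.fst_sum, Prod.snd_sum, Fin.val_inj]
    rw [e]
    refine Submodule.sum_mem _ fun n _ => Submodule.add_mem _ ?_ ?_
    · rcases le_or_gt (n.val + 1) (2 * c - i) with h | h
      · rw [h1 n h, zero_smul]; exact Submodule.zero_mem _
      · exact Submodule.smul_mem _ _ (Submodule.subset_span (Or.inr ⟨n.val + 1, ⟨h, n.2⟩, rfl⟩))
    · rcases lt_or_ge i (n.val + 1) with h | h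
      · rw [h2 n h, zero_smul]; exact Submodule.zero_mem _
      · exact Submodule.smul_mem _ _
          (Submodule.subset_span (Or.inl ⟨n.val + 1, ⟨by omega, le_min h n.2⟩, rfl⟩))

theorem finrank_Nfil {i : ℕ} (hi : i ≤ 2 * c) : Module.finrank k (Nfil c k i) = i := by
  classical
  let e : Nfil c k i ≃ₗ[k] (Fin (min i c) → k) × (Fin (i - c) → k) :=
    { toFun := fun v => (fun n => v.1.2 ⟨n.val, by omega⟩, fun n => v.1.1 ⟨2 * c - i + n.val, by omega⟩)
      invFun := fun w => ⟨(fun n => if h : 2 * c - i ≤ n.val then w.2 ⟨n.val - (2 * c - i), by omega⟩ else 0,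
        fun n => if h : n.val < min i c then w.1 ⟨n.val, h⟩ else 0), mem_Nfil.mpr
          ⟨fun n hn => dif_neg (by omega), fun n hn => dif_neg (by omega)⟩⟩
      map_add' := fun _ _ => rfl
      map_smul' := fun _ _ => rfl
      left_inv := fun v => by
        obtain ⟨h2, h1⟩ := mem_Nfil.mp v.2
        refine Subtype.ext (Prod.ext (funext fun n => ?_) (funext fun n => ?_))
        · dsimp only
          split_ifs with h
          · exact congrArg v.1.1 (Fin.ext (by simp; omega))
          · exact (h1 n (by omega)).symm
        · dsimp only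
          split_ifs with h
          · rfl
          · exact (h2 n (by omega)).symm
      right_inv := fun w => by
        refine Prod.ext (funext fun n => ?_) (funext fun n => ?_)
        · exact dif_pos n.2
        · dsimp only
          rw [dif_pos (by omega)]
          exact congrArg w.2 (Fin.ext (by simp)) }
  rw [e.finrank_eq, Module.finrank_prod, Module.finrank_fin_fun, Module.finrank_fin_fun]
  omega

variable [CharP k 2] [PerfectRing k 2] (a : ℕ → k)

set_option quotPrecheck false in
/-- The square root. -/
local notation "rt" => RingEquiv.symm (frobeniusEquiv k 2)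

lemma NV_add (v w : GcMod c k) : NV c k a (v + w) = NV c k a v + NV c k a w := by
  refine Prod.ext (by simp [NV]) (funext fun n => ?_)
  have hc : coefY (v + w) (2 * (n.val + 1)) = coefY v (2 * (n.val + 1)) + coefY w (2 * (n.val + 1)) := by
    unfold coefY
    split_ifs <;> simp
  simp only [NV, hc, map_add, Prod.snd_add, Pi.add_apply, Prod.fst_add, add_mul]
  rw [add_add_add_comm, ← Finset.sum_add_distrib]
  congr 1
  refine Finset.sum_congr rfl fun j _ => ?_
  split_ifs <;> simp

lemma NV_smul (r : k) (v : GcMod c k) : NV c k a (r ^ 2 • v) = r • NV c k a v := by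
  have hr : rt (r ^ 2) = r := by
    rw [← frobeniusEquiv_def]
    exact (frobeniusEquiv k 2).symm_apply_apply r
  refine Prod.ext (by simp [NV]) (funext fun n => ?_)
  have hc : coefY (r ^ 2 • v) (2 * (n.val + 1)) = r ^ 2 * coefY v (2 * (n.val + 1)) := by
    unfold coefY
    split_ifs <;> simp
  simp only [NV, Prod.smul_snd, Pi.smul_apply, Prod.smul_fst, smul_eq_mul]
  rw [hc, map_mul, hr, mul_add r, Finset.mul_sum]
  refine congrArg₂ (· + ·) rfl (Finset.sum_congr rfl fun j _ => ?_)
  split_ifs
  · rw [mul_assoc, map_mul, hr]
  · simp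

theorem NV_image (ha : a c ≠ 0) {i : ℕ} (hi : i ≤ 2 * c) :
    NV c k a '' (Nfil c k i : Set (GcMod c k)) = (Nfil c k (i / 2) : Set (GcMod c k)) := by
  refine Set.Subset.antisymm ?_ ?_
  · rintro _ ⟨v, hv, rfl⟩
    obtain ⟨h2, h1⟩ := mem_Nfil.mp hv
    refine mem_Nfil.mpr ⟨fun n hn => ?_, fun n _ => rfl⟩
    simp only [NV]
    have hY : coefY v (2 * (n.val + 1)) = 0 := by
      unfold coefY
      split_ifs with h
      · exact h2 _ (by simp; omega)
      · rfl
    rw [hY, map_zero, zero_add]
    refine Finset.sum_eq_zero fun j _ => ?_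
    split_ifs with h
    · rw [h1 j (by omega), zero_mul, map_zero]
    · rfl
  let S : Submodule k (GcMod c k) :=
    { carrier := NV c k a '' (Nfil c k i : Set (GcMod c k))
      add_mem' := by
        rintro _ _ ⟨v, hv, rfl⟩ ⟨w, hw, rfl⟩
        exact ⟨v + w, Submodule.add_mem _ hv hw, NV_add a v w⟩
      zero_mem' := ⟨0, Submodule.zero_mem _, by
        refine Prod.ext rfl (funext fun n => ?_)
        simp [NV, coefY]⟩
      smul_mem' := by
        rintro r _ ⟨v, hv, rfl⟩
        exact ⟨r ^ 2 • v, Submodule.smul_mem _ _ hv, NV_smul a r v⟩ }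
  suffices h : Nfil c k (i / 2) ≤ S from h
  have hlo : ∀ (m : ℕ) (hm : m < c), m + 1 ≤ i / 2 → Y c k (m + 1) ∈ S := by
    intro m
    induction m using Nat.strong_induction_on with
    | h m ih =>
      intro hm hmi
      rcases le_or_gt (2 * (m + 1)) c with hc | hc
      · refine ⟨Y c k (2 * (m + 1)), mem_Nfil.mpr ⟨fun n hn => ?_, fun n _ => rfl⟩, ?_⟩
        · simp only [Y]
          rw [if_neg (by omega)]
        · refine Prod.ext rfl (funext fun n => ?_)
          simp only [NV, Y, coefY, Pi.zero_apply, zero_mul, map_zero, ite_self, Finset.sum_const_zero, add_zero]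
          split_ifs with h h' h'' <;> simp_all <;> omega
      · -- the leading coefficient
        let J : Fin c := ⟨2 * (c - (m + 1)), by omega⟩
        let v : GcMod c k := X c k (J.val + 1)
        have hv : v ∈ Nfil c k i := mem_Nfil.mpr ⟨fun n _ => rfl, fun n hn => by
          simp only [v, X]
          rw [if_neg (by simp [J]; omega)]⟩
        have hval : ∀ n : Fin c, (NV c k a v).2 n =
            if n.val ≤ m then rt (a (n.val + 1 + (c - (m + 1)))) else 0 := fun n => by
          simp only [NV, v, X]
          rw [show coefY ((fun i : Fin c => if i.val + 1 = J.val + 1 then (1 : k) else 0), (0 : Fin c → k))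
            (2 * (n.val + 1)) = 0 by unfold coefY; split_ifs <;> rfl, map_zero, zero_add, Finset.sum_eq_single J]
          · simp only [if_pos, one_mul, J]
            rw [show 2 * (c - (m + 1)) / 2 = c - (m + 1) by omega]
            split_ifs <;> first | rfl | omega
          · intro j _ hj
            simp [show j.val ≠ J.val from fun e => hj (Fin.ext e)]
          · simp
        have hS : NV c k a v ∈ S := ⟨v, hv, rfl⟩
        let rest : GcMod c k := ∑ n : Fin c, if n.val < m then
          rt (a (n.val + 1 + (c - (m + 1)))) • Y c k (n.val + 1) else 0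
        have hrest : rest ∈ S := Submodule.sum_mem _ fun n _ => by
          split_ifs with h
          · exact Submodule.smul_mem _ _ (ih n.val h n.2 (by omega))
          · exact Submodule.zero_mem _
        have e : rt (a c) • Y c k (m + 1) = NV c k a v - rest := by
          refine Prod.ext ?_ (funext fun n => ?_)
          · simp only [rest, NV, Y, Prod.fst_sum, Prod.smul_fst, Prod.fst_sub]
            rw [Finset.sum_eq_zero fun x _ => by split_ifs <;> simp]
            simp
          · simp only [Prod.snd_sub, Pi.sub_apply, hval, rest, Prod.snd_sum, Finset.sum_apply, Prod.smul_snd,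
              Pi.smul_apply, smul_eq_mul, Y]
            rw [Finset.sum_eq_single n (fun j _ hj => by
              split_ifs <;> simp [Fin.val_ne_of_ne hj.symm]) (by simp)]
            rcases lt_trichotomy n.val m with h | h | h
            · simp [h, h.le, h.ne]
            · subst h
              simp [show n.val + 1 + (c - (n.val + 1)) = c by omega]
            · simp [h.not_ge, h.not_gt, h.ne']
        have : rt (a c) ≠ 0 := by simpa using ha
        have := Submodule.smul_mem S (rt (a c))⁻¹ (e ▸ Submodule.sub_mem S hS hrest)
        rwa [smul_smul, inv_mul_cancel₀ ‹rt (a c) ≠ 0›, one_smul] at this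
  refine Submodule.span_le.mpr ?_
  rintro _ (⟨n, hn, rfl⟩ | ⟨n, hn, rfl⟩)
  · obtain ⟨m, rfl⟩ : ∃ m, n = m + 1 := ⟨n - 1, by have := hn.1; omega⟩
    exact hlo m (by have := hn.2; omega) (le_trans hn.2 (min_le_left _ _))
  · have := hn.1; have := hn.2; omega

theorem NF_preimage (ha : a c ≠ 0) {i : ℕ} (hi : i ≤ 2 * c) :
    NF c k a ⁻¹' (Nfil c k i : Set (GcMod c k)) = (Nfil c k (c + (i + 1) / 2) : Set (GcMod c k)) := by
  ext v
  simp only [Set.mem_preimage, SetLike.mem_coe, mem_Nfil]
  constructor
  · rintro ⟨h2, h1⟩
    refine ⟨fun n hn => absurd n.2 (by omega), fun n => ?_⟩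
    induction hN : n.val using Nat.strong_induction_on generalizing n with
    | h N ih =>
      subst hN
      intro hn
      rcases le_or_gt (2 * (n.val + 1)) c with hc | hc
      · have := h1 ⟨2 * n.val + 1, by omega⟩ (by simp; omega)
        simp only [NF] at this
        rw [if_pos (by omega)] at this
        have e : coefX v ((2 * n.val + 1 + 1) / 2) = v.1 n := by
          unfold coefX
          rw [dif_pos (by omega)]
          exact congrArg v.1 (Fin.ext (by simp; omega))
        rw [e] at this
        exact pow_eq_zero_iff two_ne_zero |>.mp this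
      · have := h2 ⟨2 * (c - (n.val + 1)), by omega⟩ (by simp; omega)
        simp only [NF] at this
        rw [if_pos (by omega), Finset.sum_eq_single n] at this
        · rw [show 2 * (c - (n.val + 1)) / 2 = c - (n.val + 1) by omega, if_pos (by omega),
            show n.val + 1 + (c - (n.val + 1)) = c by omega] at this
          exact pow_eq_zero_iff two_ne_zero |>.mp ((mul_eq_zero.mp this).resolve_right ha)
        · intro j _ hj
          split_ifs with h
          · rw [ih j.val (by have := Fin.val_ne_of_ne hj; omega) j rfl (by omega)]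
            simp
          · rfl
        · simp
  · rintro ⟨-, h1⟩
    refine ⟨fun n hn => ?_, fun n hn => ?_⟩
    · simp only [NF]
      split_ifs with h
      · refine Finset.sum_eq_zero fun j _ => ?_
        split_ifs with h'
        · rw [h1 j (by omega)]; simp
        · rfl
      · rfl
    · simp only [NF]
      split_ifs with h
      · have : coefX v ((n.val + 1) / 2) = 0 := by
          unfold coefX
          split_ifs with h'
          · exact h1 _ (by simp; omega)
          · rfl
        rw [this]; simp
      · rfl

end NilBlockLib
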